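import Groth.Agent.Hensel.ProjectiveLift
import Groth.Agent.AzumayaX.Fibres
import Mathlib.RingTheory.Henselian
import Mathlib.RingTheory.LocalRing.ResidueField.Ideal
import Mathlib.LinearAlgebra.TensorProduct.Quotient

/-!
# Isomorphisms of Azumaya algebras lift from the closed point of a henselian local ring
-/

universe u

noncomputable section

namespace Groth.Agent.AzumayaLift

open TensorProduct Polynomial MulOpposite

variable {R : Type u} [CommRing R] (I : Ideal R) [HenselianRing R I]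

/-- Idempotents lift along a finite, possibly noncommutative, algebra modulo a henselian ideal. -/
theorem exists_idempotent_lift {C : Type u} [Ring C] [Algebra R C] [Module.Finite R C] {D : Type u} [Ring D]
    [Algebra R D] (ρ : C →ₐ[R] D) (hρ : ∀ c, ρ c = 0 → c ∈ I • (⊤ : Submodule R C))
    (x : C) (hx : IsIdempotentElem (ρ x)) : ∃ e : C, IsIdempotentElem e ∧ ρ e = ρ x := by
  let S := R[X] ⧸ RingHom.ker (Polynomial.aeval (R := R) x)
  let ι : S →ₐ[R] C := Ideal.Quotient.liftₐ _ (Polynomial.aeval x) fun a ha => ha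
  have hι : Function.Injective ι := by
    intro a b h
    obtain ⟨a, rfl⟩ := Ideal.Quotient.mk_surjective a
    obtain ⟨b, rfl⟩ := Ideal.Quotient.mk_surjective b
    refine Ideal.Quotient.eq.mpr ?_
    rw [RingHom.mem_ker, map_sub, sub_eq_zero]
    exact h
  have : Algebra.IsIntegral R S := ⟨fun c =>
    (isIntegral_algHom_iff ι hι).mp (Algebra.IsIntegral.isIntegral (ι c))⟩
  let I' : Ideal S :=
    { carrier := {c | ρ (ι c) = 0}
      zero_mem' := by simp
      add_mem' := fun {a b} ha hb => by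
        show ρ (ι (a + b)) = 0
        rw [map_add, map_add, ha, hb, add_zero]
      smul_mem' := fun c d hd => by
        show ρ (ι (c • d)) = 0
        rw [smul_eq_mul, map_mul, map_mul, hd, mul_zero] }
  have : HenselianRing S (I.map (algebraMap R S)) := Hensel.henselianRing_of_isIntegral' I S
  have : HenselianRing S (I.map (algebraMap R S)).radical := (Hensel.henselianRing_radical_iff _).mpr inferInstance
  have hle : I' ≤ (I.map (algebraMap R S)).radical := by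
    intro c hc
    obtain ⟨p, hp, -, hcoeff, hp0⟩ :=
      LinearMap.exists_monic_and_natDegree_eq_and_coeff_mem_pow_and_aeval_eq_zero R
        (Algebra.lmul R C (ι c)) I (by
          rintro _ ⟨v, rfl⟩
          show ι c * v ∈ _
          refine Submodule.smul_induction_on (hρ _ hc) (fun r hr m _ => ?_) (fun a b ha hb => ?_)
          · rw [Algebra.smul_mul_assoc]
            exact Submodule.smul_mem_smul hr Submodule.mem_top
          · rw [add_mul]
            exact add_mem ha hb)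
    rw [Polynomial.aeval_algHom_apply, Polynomial.aeval_algHom_apply] at hp0
    have h1 : ι (aeval c p) = 0 := by simpa using LinearMap.congr_fun hp0 1
    have h0 : aeval c p = 0 := hι (h1.trans (map_zero ι).symm)
    rw [aeval_eq_sum_range, Finset.sum_range_succ, hp.coeff_natDegree, one_smul] at h0
    refine ⟨p.natDegree, ?_⟩
    rw [eq_neg_of_add_eq_zero_right h0]
    refine neg_mem (sum_mem fun k hk => ?_)
    rw [Algebra.smul_def]
    refine Ideal.mul_mem_right _ _ (Ideal.mem_map_of_mem _ ?_)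
    exact Ideal.pow_le_self (Nat.sub_ne_zero_of_lt (Finset.mem_range.mp hk)) (hcoeff k)
  have : HenselianRing S I' := Hensel.henselianRing_of_le hle
  let x' : S := Ideal.Quotient.mk _ Polynomial.X
  have hx' : ι x' = x := Polynomial.aeval_X x
  have hidem : IsIdempotentElem (Ideal.Quotient.mk I' x') := by
    rw [IsIdempotentElem, ← map_mul, Ideal.Quotient.eq]
    show ρ (ι (x' * x' - x')) = 0
    rw [map_sub, map_mul, hx', map_sub, map_mul, hx.eq, sub_self]
  obtain ⟨e, he, hee⟩ : ∃ e : S, IsIdempotentElem e ∧ Ideal.Quotient.mk I' e = Ideal.Quotient.mk I' x' := by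
    have hb := Hensel.bijOn_idempotents_of_isIntegral I' S
    rw [Algebra.algebraMap_self, Ideal.map_id] at hb
    exact hb.surjOn hidem
  refine ⟨ι e, he.map ι, ?_⟩
  have h1 : ρ (ι (e - x')) = 0 := Ideal.Quotient.eq.mp hee
  rwa [map_sub, map_sub, hx', sub_eq_zero] at h1

section Local

variable {R : Type u} [CommRing R] [HenselianLocalRing R]

local notation "κ" => IsLocalRing.ResidueField R
local notation "𝔪" => IsLocalRing.maximalIdeal R

theorem mem_smul_of_one_tmul_eq_zero {M : Type u} [AddCommGroup M] [Module R M] {x : M}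
    (h : (1 : κ) ⊗ₜ[R] x = 0) : x ∈ 𝔪 • (⊤ : Submodule R M) := by
  have h2 := congrArg (TensorProduct.quotTensorEquivQuotSMul M 𝔪) h
  replace h2 := h2.trans (LinearEquiv.map_zero (TensorProduct.quotTensorEquivQuotSMul M 𝔪))
  have h3 : TensorProduct.quotTensorEquivQuotSMul M 𝔪 (Ideal.Quotient.mk 𝔪 1 ⊗ₜ[R] x) =
      Submodule.Quotient.mk x := by simp
  exact (Submodule.Quotient.mk_eq_zero _).mp (h3.symm.trans h2)

theorem exists_one_tmul {M : Type u} [AddCommGroup M] [Module R M] (y : κ ⊗[R] M) :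
    ∃ x : M, (1 : κ) ⊗ₜ[R] x = y :=
  TensorProduct.mk_surjective R M κ IsLocalRing.residue_surjective y

/-- Lifting an isomorphism of the special fibres to an algebra map. -/
theorem exists_lift (A : Type u) [Ring A] [Algebra R A] [IsAzumaya R A] (B : Type u) [Ring B] [Algebra R B]
    [IsAzumaya R B] (e₀ : (κ ⊗[R] A) ≃ₐ[κ] (κ ⊗[R] B)) :
    ∃ ψ : A →ₐ[R] B, ∀ a, e₀ ((1 : κ) ⊗ₜ[R] a) = (1 : κ) ⊗ₜ[R] ψ a := by
  classical
  haveI : IsAzumaya κ (κ ⊗[R] B) := AzumayaX.isAzumaya_baseChange R κ B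
  haveI := AzumayaX.nontrivial_of_isAzumaya κ (κ ⊗[R] B)
  let one' : B →ₐ[R] κ ⊗[R] B := Algebra.TensorProduct.includeRight
  let f₁ : A →ₐ[R] κ ⊗[R] B := (e₀.toAlgHom.restrictScalars R).comp Algebra.TensorProduct.includeRight
  let Bk := κ ⊗[R] B
  let L₀ : (Bk ⊗[κ] Bkᵐᵒᵖ) →ₐ[κ] Module.End κ Bk := AlgHom.mulLeftRight κ Bk
  let jl : A →ₐ[R] Bk ⊗[κ] Bkᵐᵒᵖ :=
    (Algebra.TensorProduct.includeLeft : Bk →ₐ[R] Bk ⊗[κ] Bkᵐᵒᵖ).comp f₁
  let jr : Bᵐᵒᵖ →ₐ[R] Bk ⊗[κ] Bkᵐᵒᵖ :=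
    ((Algebra.TensorProduct.includeRight : Bkᵐᵒᵖ →ₐ[κ] Bk ⊗[κ] Bkᵐᵒᵖ).restrictScalars R).comp (AlgHom.op one')
  let q : A ⊗[R] Bᵐᵒᵖ →ₐ[R] Bk ⊗[κ] Bkᵐᵒᵖ := Algebra.TensorProduct.lift jl jr fun a b => by
    show Commute ((f₁ a) ⊗ₜ[κ] (1 : Bkᵐᵒᵖ)) ((1 : Bk) ⊗ₜ[κ] AlgHom.op one' b)
    simp [Commute, SemiconjBy, Algebra.TensorProduct.tmul_mul_tmul]
  let ρ : A ⊗[R] Bᵐᵒᵖ →ₐ[R] Module.End κ Bk := (L₀.restrictScalars R).comp q
  have hρt : ∀ a b y, ρ (a ⊗ₜ[R] op b) y = f₁ a * y * one' b := by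
    intro a b y
    show L₀ (q (a ⊗ₜ[R] op b)) y = _
    simp [q, jl, jr, L₀, Algebra.TensorProduct.tmul_mul_tmul]
  have hqs : Function.Surjective q := by
    intro z
    induction z using TensorProduct.induction_on with
    | zero => exact ⟨0, map_zero _⟩
    | tmul y w =>
      obtain ⟨a, ha⟩ := exists_one_tmul (R := R) (e₀.symm y)
      obtain ⟨b, hb⟩ := exists_one_tmul (R := R) w.unop
      refine ⟨a ⊗ₜ[R] op b, ?_⟩
      have h1 : f₁ a = y := by
        show e₀ ((1 : κ) ⊗ₜ[R] a) = y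
        rw [ha, AlgEquiv.apply_symm_apply]
      have h2 : AlgHom.op one' (op b) = w := by
        apply MulOpposite.unop_injective
        exact hb
      simp [q, jl, jr, Algebra.TensorProduct.tmul_mul_tmul, h1, h2]
    | add z w hz hw =>
      obtain ⟨a, rfl⟩ := hz
      obtain ⟨b, rfl⟩ := hw
      exact ⟨a + b, map_add _ _ _⟩
  have hρs : Function.Surjective ρ := fun g => by
    obtain ⟨z, hz⟩ := (IsAzumaya.bij (R := κ) (A := Bk)).2 g
    obtain ⟨c, rfl⟩ := hqs z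
    exact ⟨c, hz⟩
  -- the kernel consists of the multiples of the maximal ideal
  haveI : Module.Free R A := Module.free_of_flat_of_isLocalRing
  haveI : Module.Free R B := Module.free_of_flat_of_isLocalRing
  haveI : Module.Free R (Bᵐᵒᵖ) := Module.Free.of_equiv (MulOpposite.opLinearEquiv R)
  have hrank : Module.finrank R A = Module.finrank R B := by
    have h := e₀.toLinearEquiv.finrank_eq
    rwa [Module.finrank_baseChange, Module.finrank_baseChange] at h
  let ρk : κ ⊗[R] (A ⊗[R] Bᵐᵒᵖ) →ₗ[κ] Module.End κ Bk :=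
    LinearMap.liftBaseChange κ ρ.toLinearMap
  have hρk : Function.Injective ρk := by
    refine (LinearMap.injective_iff_surjective_of_finrank_eq_finrank ?_).mpr fun g => ?_
    · rw [Module.finrank_baseChange, Module.finrank_linearMap, Module.finrank_tensorProduct,
        (MulOpposite.opLinearEquiv R (M := B)).symm.finrank_eq, hrank, Module.finrank_baseChange]
    · obtain ⟨c, rfl⟩ := hρs g
      exact ⟨(1 : κ) ⊗ₜ[R] c, by simp [ρk]⟩
  have hker : ∀ c, ρ c = 0 → c ∈ 𝔪 • (⊤ : Submodule R (A ⊗[R] Bᵐᵒᵖ)) := by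
    intro c hc
    refine mem_smul_of_one_tmul_eq_zero (hρk ?_)
    rw [map_zero]
    simp [ρk, hc]
  -- a rank-one projection onto the line of the unit
  obtain ⟨φ, hφ⟩ : ∃ φ : Bk →ₗ[κ] κ, φ 1 = 1 := by
    obtain ⟨φ, hφ⟩ := Module.Projective.exists_dual_ne_zero κ (one_ne_zero : (1 : Bk) ≠ 0)
    exact ⟨(φ 1)⁻¹ • φ, by simp [hφ]⟩
  let π₀ : Module.End κ Bk := φ.smulRight (1 : Bk)
  have hπ₀ : IsIdempotentElem π₀ := LinearMap.ext fun y => by simp [π₀, hφ]
  obtain ⟨x, hx⟩ := hρs π₀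
  obtain ⟨e, he, hρe⟩ := exists_idempotent_lift 𝔪 ρ hker x (by rw [hx]; exact hπ₀)
  rw [hx] at hρe
  let P : Submodule R (A ⊗[R] Bᵐᵒᵖ) := LinearMap.range (LinearMap.mulRight R e)
  let re : A ⊗[R] Bᵐᵒᵖ →ₗ[R] P := (LinearMap.mulRight R e).rangeRestrict
  have hre : ∀ p : P, re p.1 = p := by
    rintro ⟨_, c, rfl⟩
    refine Subtype.ext ?_
    show c * e * e = c * e
    rw [mul_assoc, he.eq]
  haveI : Module.Finite R P := Module.Finite.range _
  haveI : Module.Projective R P := Module.Projective.of_split P.subtype re (LinearMap.ext hre)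
  let θ : B →ₗ[R] P :=
    re ∘ₗ (TensorProduct.mk R A Bᵐᵒᵖ 1) ∘ₗ (MulOpposite.opLinearEquiv R (M := B)).toLinearMap
  have hθv : ∀ b : B, (θ b : A ⊗[R] Bᵐᵒᵖ) = ((1 : A) ⊗ₜ[R] op b) * e := fun b => rfl
  have hev : ∀ (c : A ⊗[R] Bᵐᵒᵖ) (y : Bk), ρ (c * e) y = φ y • ρ c 1 := fun c y => by
    rw [map_mul, hρe, Module.End.mul_apply]
    show ρ c (φ y • (1 : Bk)) = _
    rw [map_smul]
  have hρθ : ∀ b : B, ρ ((1 : A) ⊗ₜ[R] op b) 1 = one' b := fun b => by simp [hρt]
  have hθs : Function.Surjective θ := by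
    refine LinearMap.range_eq_top.mp (eq_top_iff.mpr ?_)
    refine @Submodule.le_of_le_smul_of_le_jacobson_bot R P _ _ _ 𝔪 (LinearMap.range θ) ⊤
      Module.Finite.fg_top (IsLocalRing.maximalIdeal_le_jacobson _) fun p _ => ?_
    obtain ⟨b, hb⟩ := exists_one_tmul (R := R) (ρ p.1 1)
    have hd : ρ (p.1 - (1 : A) ⊗ₜ[R] op b * e) = 0 := by
      refine LinearMap.ext fun y => ?_
      have hp : p.1 * e = p.1 := congrArg Subtype.val (hre p)
      rw [map_sub, LinearMap.sub_apply, hev, hρθ, ← hp, hev, LinearMap.zero_apply, sub_eq_zero]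
      congr 1
      exact hb.symm
    refine Submodule.mem_sup.mpr ⟨θ b, ⟨b, rfl⟩, p - θ b, ?_, by abel⟩
    have h1 := Submodule.mem_map_of_mem (f := re) (hker _ hd)
    rw [Submodule.map_smul''] at h1
    have h2 : re (p.1 - (1 : A) ⊗ₜ[R] op b * e) = p - θ b := by
      rw [map_sub, hre, ← hθv b, hre]
    rw [h2] at h1
    exact Submodule.smul_mono le_rfl le_top h1
  have hθi : Function.Injective θ := by
    obtain ⟨σ, hσ⟩ := Module.projective_lifting_property θ LinearMap.id hθs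
    let pr : B →ₗ[R] LinearMap.ker θ := LinearMap.codRestrict _ (LinearMap.id - σ ∘ₗ θ) fun b => by
      have := LinearMap.congr_fun hσ (θ b)
      simp only [LinearMap.comp_apply, LinearMap.id_apply] at this
      simp [LinearMap.mem_ker, this]
    have hpr : ∀ b : LinearMap.ker θ, pr b.1 = b := fun b => Subtype.ext (by simp [pr])
    haveI : Module.Finite R (LinearMap.ker θ) := Module.Finite.of_surjective pr fun b => ⟨b.1, hpr b⟩
    have hbot : (⊤ : Submodule R (LinearMap.ker θ)) = ⊥ := by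
      refine Submodule.eq_bot_of_le_smul_of_le_jacobson_bot 𝔪 _ Module.Finite.fg_top (fun b _ => ?_)
        (IsLocalRing.maximalIdeal_le_jacobson _)
      have h0 : one' b.1 = 0 := by
        have h : ρ (θ b.1 : A ⊗[R] Bᵐᵒᵖ) 1 = 0 := by rw [LinearMap.mem_ker.mp b.2]; simp
        rw [hθv, hev, hρθ, hφ, one_smul] at h
        exact h
      have h1 := Submodule.mem_map_of_mem (f := pr) (mem_smul_of_one_tmul_eq_zero (M := B) h0)
      rw [Submodule.map_smul'', hpr] at h1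
      exact Submodule.smul_mono le_rfl le_top h1
    refine (injective_iff_map_eq_zero θ).mpr fun b hb => ?_
    have : (⟨b, hb⟩ : LinearMap.ker θ) ∈ (⊥ : Submodule R (LinearMap.ker θ)) := hbot ▸ Submodule.mem_top
    exact congrArg Subtype.val ((Submodule.mem_bot R).mp this)
  let Θ := LinearEquiv.ofBijective θ ⟨hθi, hθs⟩
  let ψ : A →ₗ[R] B := Θ.symm.toLinearMap ∘ₗ re ∘ₗ (TensorProduct.mk R A Bᵐᵒᵖ).flip 1
  have hψ : ∀ a, ((1 : A) ⊗ₜ[R] op (ψ a)) * e = (a ⊗ₜ[R] (1 : Bᵐᵒᵖ)) * e := fun a => by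
    rw [← hθv]
    exact congrArg Subtype.val (Θ.apply_symm_apply _)
  have huniq : ∀ a b, ((1 : A) ⊗ₜ[R] op b) * e = (a ⊗ₜ[R] (1 : Bᵐᵒᵖ)) * e → b = ψ a := fun a b h =>
    hθi (Subtype.ext ((hθv b).trans (h.trans ((hψ a).symm.trans (hθv (ψ a)).symm))))
  refine ⟨AlgHom.ofLinearMap ψ ?_ ?_, fun a => ?_⟩
  · refine (huniq 1 1 ?_).symm
    rfl
  · intro a a'
    refine (huniq (a * a') (ψ a * ψ a') ?_).symm
    have hc : (a ⊗ₜ[R] (1 : Bᵐᵒᵖ)) * ((1 : A) ⊗ₜ[R] op (ψ a')) =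
        ((1 : A) ⊗ₜ[R] op (ψ a')) * (a ⊗ₜ[R] (1 : Bᵐᵒᵖ)) := by
      simp [Algebra.TensorProduct.tmul_mul_tmul]
    have hm : ((a * a') ⊗ₜ[R] (1 : Bᵐᵒᵖ)) = (a ⊗ₜ[R] (1 : Bᵐᵒᵖ)) * (a' ⊗ₜ[R] (1 : Bᵐᵒᵖ)) := by simp
    have ho : ((1 : A) ⊗ₜ[R] op (ψ a * ψ a')) =
        ((1 : A) ⊗ₜ[R] op (ψ a')) * ((1 : A) ⊗ₜ[R] op (ψ a)) := by simp
    rw [hm, ho, mul_assoc, hψ, mul_assoc _ _ e, ← hψ a', ← mul_assoc, ← mul_assoc, hc]
  · have h := congrArg (fun c => ρ c 1) (hψ a)
    simp only [hev, hφ, one_smul, hρθ] at h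
    rw [show ρ (a ⊗ₜ[R] (1 : Bᵐᵒᵖ)) 1 = f₁ a by
      rw [← MulOpposite.op_one, hρt]; simp] at h
    exact h.symm

/-- Isomorphisms of the special fibres lift to isomorphisms. -/
theorem exists_algEquiv_lift (A : Type u) [Ring A] [Algebra R A] [IsAzumaya R A] (B : Type u) [Ring B] [Algebra R B]
    [IsAzumaya R B] (e₀ : (κ ⊗[R] A) ≃ₐ[κ] (κ ⊗[R] B)) :
    ∃ e : A ≃ₐ[R] B, ∀ a, e₀ ((1 : κ) ⊗ₜ[R] a) = (1 : κ) ⊗ₜ[R] e a := by
  obtain ⟨ψ, hψ⟩ := exists_lift A B e₀
  obtain ⟨χ, hχ⟩ := exists_lift B A e₀.symm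
  have h1 : Function.Bijective (χ.toLinearMap ∘ₗ ψ.toLinearMap) :=
    Hensel.bijective_of_forall_sub_mem 𝔪 _ fun a => mem_smul_of_one_tmul_eq_zero (by
      show (1 : κ) ⊗ₜ[R] (χ (ψ a) - a) = 0
      rw [TensorProduct.tmul_sub, ← hχ, ← hψ, AlgEquiv.symm_apply_apply, sub_self])
  have h2 : Function.Bijective (ψ.toLinearMap ∘ₗ χ.toLinearMap) :=
    Hensel.bijective_of_forall_sub_mem 𝔪 _ fun b => mem_smul_of_one_tmul_eq_zero (by
      show (1 : κ) ⊗ₜ[R] (ψ (χ b) - b) = 0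
      rw [TensorProduct.tmul_sub, ← hψ, ← hχ, AlgEquiv.apply_symm_apply, sub_self])
  exact ⟨AlgEquiv.ofBijective ψ ⟨Function.Injective.of_comp (f := χ.toLinearMap) h1.1,
    Function.Surjective.of_comp (g := χ.toLinearMap) h2.2⟩, hψ⟩

end Local

end Groth.Agent.AzumayaLift
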